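import Cfsg.Agent.H225.PPow.ChevF
import Cfsg.Agent.Nodes.CardSup_m3
import Cfsg.Agent.Nodes.NormalForm
import Cfsg.Agent.H897.IF.ENum
import Cfsg.Agent.Nodes.KindChev
import Cfsg.Agent.FastGrp
import Cfsg.Agent.Prune
set_option linter.all false
prune_inst 0x7f00000000000000000000000000000000000000000000000000000000000000000000000000000000000000000000000000000000000000000000000000000000000000000000000000000000000000003fffffffffffffffffffffffffffbeffbdffffffff
open scoped Cfsg.Agent.FastGrp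

-- part: H225/PPow/TwoCard
section
/-!
# Orders of parabolic subgroups from a table of the elements of `W_J` (helper225)

`card_PJ_gen`, `card_Sup_NW` are copied from H296/FFourPar (helper296), `closed_NW` from SigTab/AltFFour.
-/

set_option autoImplicit false
set_option linter.unusedSectionVars false

namespace Cfsg.Agent.H225.PPow.Card

open CoxeterSystem Subgroup Cfsg Cfsg.Lie Cfsg.Lie.ChevalleyDatum
open Cfsg.Agent.ChevalleyStructure Cfsg.Agent.ChevalleyStructure.Elts Cfsg.Agent.ChevalleyStructure.CoxeterGeom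
  Cfsg.Agent.ChevalleyStructure.CoxeterGeomTypes Cfsg.Agent.ChevalleyStructure.NPerm
  Cfsg.Agent.ChevalleyStructure.RootVec Cfsg.Agent.ChevalleyStructure.RootVecTab
open Cfsg.Agent.Tits.Roots Cfsg.Agent.Tits.Core Cfsg.Agent.Tits.RootComb Cfsg.Agent.Nodes.Comb
  Cfsg.Agent.Nodes.Reps Cfsg.Agent.Nodes.BNOf Cfsg.Agent.Nodes.StabComb Cfsg.Agent.Nodes.Bruhat
  Cfsg.Agent.Nodes.LeviDec Cfsg.Agent.Nodes.NormalForm Cfsg.Agent.Nodes.RGDChev
open Cfsg.Agent.KFacts.RgdChevCoord Cfsg.Agent.H225.PPow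

universe u

section Gen

variable {I W Y : Type*} [Fintype I] [DecidableEq I] [Group W] [Group Y] {M : CoxeterMatrix I}
  {cs : CoxeterSystem M W} {A : I → I → ℤ} {h : IsCartan M A} {p : ℕ} {T : Subgroup Y} {n : I → Y}
  {X : (I → ℤ) → Subgroup Y} (R : RGD cs h p T n X)

theorem closed_NW (w : W) : Cfsg.Agent.Nodes.Unique.Closed cs h (NW cs h w) := by
  intro x hx y hy z hz
  refine ⟨hz.1, RGD.nonneg_of_btwn hx.2.1 hy.2.1 hz, ?_⟩
  have h1 : (0 : I → ℤ) ≤ rep cs h w (-z) := by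
    refine RGD.nonneg_of_btwn (cs := cs) (h := h) (x := rep cs h w (-x)) (y := rep cs h w (-y))
      ?_ ?_ ((btwn_neg hz).act w)
    · rw [map_neg]; exact neg_nonneg.2 hx.2.2
    · rw [map_neg]; exact neg_nonneg.2 hy.2.2
  rw [map_neg] at h1
  exact neg_nonneg.1 h1

include R

/-- **The order of a parabolic subgroup.** -/
theorem card_PJ_gen [Finite W] [Finite Y] (J : Set I) [Fintype ↥(WJ cs J)] :
    Nat.card ↥(PJ cs h T X J) = Nat.card ↥(RGD.Sup X (RGD.Pos cs h)) * Nat.card ↥T *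
      ∑ w : ↥(WJ cs J), Nat.card ↥(RGD.Sup X (NW cs h (w : W))) := by
  classical
  have hex : ∀ w : W, ∃ k, Rp cs R.nsys w k := fun w => exists_rp cs R.nsys w
  choose k hk using hex
  have hNU : ∀ w : W, RGD.Sup X (NW cs h w) ≤ RGD.Sup X (RGD.Pos cs h) := fun w =>
    RGD.Sup_mono fun x hx => ⟨hx.1, hx.2.1⟩
  have hkt : ∀ (w : W) (t : ↥T), Rp cs R.nsys w (k w * t) := fun w t => (hk w).mul_mem_right t.2
  let f : (Σ w : ↥(WJ cs J), (↥(RGD.Sup X (RGD.Pos cs h)) × ↥T) × ↥(RGD.Sup X (NW cs h (w : W)))) →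
      ↥(PJ cs h T X J) := fun x => ⟨x.2.1.1 * (k x.1 * x.2.1.2) * x.2.2, by
    refine mul_mem (mul_mem (B_le_PJ (RGD.U_le_B x.2.1.1.2)) (LJ_le_PJ (rp_mem_LJ R x.1.2 (hkt _ _)))) (B_le_PJ
      (RGD.U_le_B (hNU _ x.2.2.2)))⟩
  have hf : Function.Bijective f := by
    constructor
    · rintro ⟨⟨w, hw⟩, ⟨⟨u, hu⟩, ⟨t, ht⟩⟩, ⟨v, hv⟩⟩ ⟨⟨w', hw'⟩, ⟨⟨u', hu'⟩, ⟨t', ht'⟩⟩, ⟨v', hv'⟩⟩ e
      have e1 : u * (k w * t) * v = u' * (k w' * t') * v' := congrArg Subtype.val e
      have c1 : Cell R.nsys cs h X w (u * (k w * t) * v) :=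
        ⟨u, RGD.U_le_B hu, k w * t, hkt w ⟨t, ht⟩, v, RGD.U_le_B (hNU w hv), rfl⟩
      have c2 : Cell R.nsys cs h X w' (u' * (k w' * t') * v') :=
        ⟨u', RGD.U_le_B hu', k w' * t', hkt w' ⟨t', ht'⟩, v', RGD.U_le_B (hNU w' hv'), rfl⟩
      have hww : w = w' := Cell.unique R c1 (by rw [e1]; exact c2)
      subst hww
      obtain ⟨rfl, h2, rfl⟩ := normal_form_unique R hu hu' (hkt w ⟨t, ht⟩) (hkt w ⟨t', ht'⟩) hv hv' e1
      have h3 : t = t' := mul_left_cancel h2
      subst h3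
      rfl
    · rintro ⟨g, hg⟩
      obtain ⟨w, hw, hc⟩ := (mem_PJ_iff_cell R).1 hg
      obtain ⟨u, hu, k', hk', v, hv, rfl⟩ := exists_normal_form R hc
      refine ⟨⟨⟨w, hw⟩, ⟨⟨u, hu⟩, ⟨_, (hk w).unique hk'⟩⟩, ⟨v, hv⟩⟩, Subtype.ext ?_⟩
      show u * (k w * ((k w)⁻¹ * k')) * v = u * k' * v
      group
  rw [← Nat.card_congr (Equiv.ofBijective f hf), Nat.card_sigma]
  simp only [Nat.card_prod]
  rw [Finset.mul_sum]

theorem card_Sup_NW [Finite W] {q : ℕ} (hX : ∀ x, IsRoot cs h x → Nat.card ↥(X x) = q) (w : W) :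
    Nat.card ↥(RGD.Sup X (NW cs h w)) = q ^ (NW cs h w).ncard := by
  classical
  have hfin : (NW cs h w).Finite := (RGD.finite_roots (cs := cs) (h := h)).subset fun _ hx => hx.1
  have h1 := Cfsg.Agent.Nodes.CardSup.card_sup R (s := hfin.toFinset) (by
    rw [Set.Finite.coe_toFinset]
    exact fun x hx => ⟨hx.1, hx.2.1⟩) (by
    rw [Set.Finite.coe_toFinset]
    exact closed_NW w)
  rw [Set.Finite.coe_toFinset] at h1
  rw [h1, Finset.prod_congr rfl (fun x hx => hX x ((Set.Finite.mem_toFinset hfin).1 hx).1), Finset.prod_const,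
    Set.ncard_eq_toFinset_card _ hfin]

end Gen

section Table

variable {D : ChevalleyDatum} {l : ℕ} {M : CoxeterMatrix (Fin l)} (hp : IsType D l M)
  {W : Type*} [Group W] (cs : CoxeterSystem M W)

/-- the images of the simple roots -/
def key (D : ChevalleyDatum) {l : ℕ} (ω : List (Fin l)) : List ℕ :=
  (List.finRange l).map (fun i : Fin l => wact D ω (D.simple (i : ℕ)))

/-- the check of the table of `W_J` -/
def chk (D : ChevalleyDatum) {l : ℕ} (J : List (Fin l)) (L : List (List (Fin l))) : Bool :=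
  decide (L.map (key D)).Nodup && (L.map (key D)).contains (key D ([] : List (Fin l))) && (L.all fun ω => ω.all fun j => J.contains j) &&
  L.all fun ω => J.all fun j => (L.map (key D)).contains (key D (j :: ω))

include hp in
theorem eq_of_key {ω ω' : List (Fin l)} (e : key D ω = key D ω') : cs.wordProd ω = cs.wordProd ω' := by
  have h2 : (cs.wordProd ω)⁻¹ * cs.wordProd ω' = 1 := by
    refine eq_one_of_nonneg cs hp.isCartan _ fun i => ?_
    have h4 := RootVec.simple_lt hp.checked (lt_rank hp i)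
    have h3 : rep cs hp.isCartan (cs.wordProd ω') (sr i) = rep cs hp.isCartan (cs.wordProd ω) (sr i) := by
      rw [← vec_simple hp i, rep_word hp cs ω' h4, rep_word hp cs ω h4]
      congr 1
      have h5 := congrArg (fun L : List ℕ => L.getD i 0) e
      unfold key at h5
      have h6 : ∀ f : Fin l → ℕ, ((List.finRange l).map f).getD (i : ℕ) 0 = f i := by
        intro f
        rw [List.getD_eq_getElem?_getD, List.getElem?_map, List.getElem?_eq_getElem (by simp)]
        simp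
      rw [h6, h6] at h5
      exact h5.symm
    change 0 ≤ rep cs hp.isCartan ((cs.wordProd ω)⁻¹ * cs.wordProd ω') (sr i)
    rw [rep_mul_apply, h3, rep_inv_apply]
    exact sr_nonneg i
  exact inv_mul_eq_one.1 h2

include hp in
/-- the elements of `W_J` -/
theorem mem_WJ_iff {J : List (Fin l)} {L : List (List (Fin l))} (hc : chk D J L = true) (w : W) :
    w ∈ WJ cs {i | i ∈ J} ↔ ∃ ω ∈ L, cs.wordProd ω = w := by
  unfold chk at hc
  simp only [Bool.and_eq_true, decide_eq_true_eq, List.contains_iff_mem, List.all_eq_true] at hc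
  obtain ⟨⟨⟨-, h1⟩, h2⟩, h3⟩ := hc
  constructor
  · intro hw
    obtain ⟨ω, hω, rfl⟩ := Cfsg.Agent.Tits.Exchange.exists_word_of_mem_WJ cs hw
    clear hw
    induction ω with
    | nil =>
      rw [List.mem_map] at h1
      obtain ⟨ω, hωL, e⟩ := h1
      exact ⟨ω, hωL, eq_of_key hp cs e⟩
    | cons j ω ih =>
      obtain ⟨ω', hω', e⟩ := ih fun j hj => hω j (by simp [hj])
      have h4 := h3 ω' hω' j (hω j (by simp))
      rw [List.mem_map] at h4
      obtain ⟨ω'', hω'', e''⟩ := h4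
      refine ⟨ω'', hω'', ?_⟩
      rw [eq_of_key hp cs e'', wordProd_cons, wordProd_cons, e]
  · rintro ⟨ω, hω, rfl⟩
    have h4 := h2 ω hω
    clear hω
    induction ω with
    | nil => rw [wordProd_nil]; exact one_mem _
    | cons j ω ih =>
      rw [wordProd_cons]
      exact mul_mem (Cfsg.Agent.Tits.Exchange.simple_mem_WJ cs (h4 j (by simp))) (ih fun j hj => h4 j (by simp [hj]))

end Table

end Cfsg.Agent.H225.PPow.Card
end

-- part: H275/CS/Sum
section
/-!
# The stabilizer sum of a torsion point of the torus (S5745, class sizes; helper275)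

`c` a dominant functional on the root lattice with `c a < n` for all roots `a` (an alcove point with `c₀ ≠ 0`), `Ψ` the set
of roots with `n ∣ c a`, `S` a set of `w` with `n ∣ c (w a) - c a` for all roots `a`:

* `exists_pos` : `c = c ∘ y`, `φ ∘ y` positive on the positive roots of `Ψ`;
* `sum_zero` : `q ^ (N - N_Ψ) ∑_{c ∘ e = c} q ^ #{a ∈ Ψ⁺ : e a < 0} ≤ ∑_{w ∈ W} q ^ ℓ(w)`;
* `sum_le` : the same sum over `S` is at most `κ` times this one, `κ = 1 + #{i : m i = 1}`.
-/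

set_option autoImplicit false
set_option linter.unusedSectionVars false

namespace Cfsg.Agent.H275.CS.Sum

open CoxeterSystem Cfsg.Agent.ChevalleyStructure.CoxeterGeom Cfsg.Agent.Tits.Roots Cfsg.Agent.Tits.Core
  Cfsg.Agent.Nodes Cfsg.Agent.Nodes.Reps Cfsg.Agent.Nodes.BNOf Cfsg.Agent.Nodes.NormalForm

variable {I W : Type*} [Fintype I] [DecidableEq I] [Group W] {M : CoxeterMatrix I}
  {cs : CoxeterSystem M W} {A : I → I → ℤ} {h : IsCartan M A}

/-- an additive functional is determined by the simple roots -/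
theorem apply_eq (c : (I → ℤ) →+ ℤ) (x : I → ℤ) : c x = ∑ i, x i * c (sr i) := by
  have e : x = ∑ i, x i • (sr i : I → ℤ) := by
    funext j
    rw [Finset.sum_apply, Finset.sum_eq_single j]
    · rw [Pi.smul_apply, sr_self, smul_eq_mul, mul_one]
    · intro b _ hb
      rw [Pi.smul_apply, sr_ne (Ne.symm hb), smul_zero]
    · intro h1
      exact absurd (Finset.mem_univ j) h1
  conv_lhs => rw [e]
  rw [map_sum]
  exact Finset.sum_congr rfl fun j _ => by rw [map_zsmul, smul_eq_mul]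

theorem ext_sr {c c' : (I → ℤ) →+ ℤ} (hc : ∀ i, c (sr i) = c' (sr i)) (x : I → ℤ) : c x = c' x := by
  rw [apply_eq, apply_eq c']
  exact Finset.sum_congr rfl fun i _ => by rw [hc]

/-- the pullback -/
def pb (cs : CoxeterSystem M W) (h : IsCartan M A) (c : (I → ℤ) →+ ℤ) (w : W) : (I → ℤ) →+ ℤ :=
  c.comp (rep cs h w).toAddMonoidHom

theorem pb_apply (c : (I → ℤ) →+ ℤ) (w : W) (x : I → ℤ) : pb cs h c w x = c (rep cs h w x) := rfl

/-- the height -/
def ht : (I → ℤ) →+ ℤ where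
  toFun x := ∑ i, x i
  map_zero' := by simp only [_root_.Pi.zero_apply, _root_.Finset.sum_const_zero]
  map_add' x y := by rw [← Finset.sum_add_distrib]; rfl

theorem ht_pos {x : I → ℤ} (hx : IsRoot cs h x) (h0 : 0 ≤ x) : 0 < ht x := by
  have h1 : 0 ≤ ht x := Finset.sum_nonneg fun i _ => h0 i
  refine lt_of_le_of_ne h1 fun e => hx.ne_zero ?_
  funext i
  exact (Finset.sum_eq_zero_iff_of_nonneg fun i _ => h0 i).1 e.symm i (Finset.mem_univ i)

theorem ht_neg {x : I → ℤ} (hx : IsRoot cs h x) (h0 : x ≤ 0) : ht x < 0 := by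
  have h1 := ht_pos hx.neg (neg_nonneg.2 h0)
  rw [map_neg] at h1
  omega

theorem nonneg_of_ht {x : I → ℤ} (hx : IsRoot cs h x) (h0 : 0 < ht x) : 0 ≤ x := by
  rcases hx.pos_or_neg with h1 | h1
  · exact h1
  · have := ht_neg hx h1
    omega

variable (c : (I → ℤ) →+ ℤ) (hc : ∀ i, 0 ≤ c (sr i))

include hc in
theorem c_nonneg {x : I → ℤ} (h0 : 0 ≤ x) : 0 ≤ c x := by
  rw [apply_eq]
  exact Finset.sum_nonneg fun i _ => mul_nonneg (h0 i) (hc i)

include hc in
theorem nonneg_of_c {x : I → ℤ} (hx : IsRoot cs h x) (h0 : 0 < c x) : 0 ≤ x := by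
  rcases hx.pos_or_neg with h1 | h1
  · exact h1
  · have h2 := c_nonneg c hc (x := -x) (neg_nonneg.2 h1)
    rw [map_neg] at h2
    omega

include hc in
/-- positive roots of `Ψ` are combinations of simple roots of `Ψ` -/
theorem supp_zero {x : I → ℤ} (h0 : 0 ≤ x) (h1 : c x = 0) (i : I) (hi : x i ≠ 0) : c (sr i) = 0 := by
  rw [apply_eq] at h1
  have h2 := (Finset.sum_eq_zero_iff_of_nonneg fun i _ => mul_nonneg (h0 i) (hc i)).1 h1 i (Finset.mem_univ i)
  exact (mul_eq_zero.1 h2).resolve_left hi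

theorem pb_simple {i : I} (hi : c (sr i) = 0) (x : I → ℤ) : c (rep cs h (cs.simple i) x) = c x := by
  rw [rep_simple_eq, map_sub, map_zsmul, hi, smul_zero, sub_zero]

variable (P : Finset (I → ℤ)) (hP : ∀ x, x ∈ P ↔ IsRoot cs h x ∧ 0 ≤ x)

include hc hP in
/-- **positivity on the positive roots of `Ψ`** -/
theorem exists_pos [Finite W] (φ : (I → ℤ) →+ ℤ) (hφ : ∀ x, IsRoot cs h x → φ x ≠ 0) :
    ∃ y : W, (∀ x, c (rep cs h y x) = c x) ∧ ∀ a ∈ P, c a = 0 → 0 < φ (rep cs h y a) := by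
  classical
  let K := {y : W // ∀ x, c (rep cs h y x) = c x}
  have hne : Nonempty K := ⟨⟨1, fun x => by rw [map_one]; rfl⟩⟩
  have hfin : Finite K := inferInstance
  let f : K → ℕ := fun y => (P.filter (fun a => c a = 0 ∧ φ (rep cs h y.1 a) < 0)).card
  obtain ⟨⟨y, hy⟩, hmin⟩ := Finite.exists_min f
  refine ⟨y, hy, fun a ha ha0 => ?_⟩
  by_contra hcon
  obtain ⟨har, ha1⟩ := (hP a).1 ha
  have hlt : φ (rep cs h y a) < 0 := lt_of_le_of_ne (not_lt.1 hcon) (hφ _ (har.act y))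
  -- a simple root
  obtain ⟨i, hi0, hi⟩ : ∃ i, c (sr i) = 0 ∧ φ (rep cs h y (sr i)) < 0 := by
    by_contra hno
    push Not at hno
    have h1 : 0 ≤ pb cs h φ y a := by
      rw [apply_eq]
      refine Finset.sum_nonneg fun i _ => ?_
      by_cases hi : a i = 0
      · rw [hi, zero_mul]
      · exact mul_nonneg (ha1 i) (hno i (supp_zero c hc ha1 ha0 i hi))
    rw [pb_apply] at h1
    omega
  have hs : ∀ x, c (rep cs h (y * cs.simple i) x) = c x := fun x => by
    rw [rep_mul_apply, hy, pb_simple c hi0]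
  have h1 := hmin ⟨y * cs.simple i, hs⟩
  have hsi : (sr i : I → ℤ) ∈ P.filter (fun a => c a = 0 ∧ φ (rep cs h y a) < 0) :=
    Finset.mem_filter.2 ⟨(hP _).2 ⟨isRoot_sr cs h i, sr_nonneg i⟩, hi0, hi⟩
  have h2 : (P.filter (fun a => c a = 0 ∧ φ (rep cs h (y * cs.simple i) a) < 0)).card <
      (P.filter (fun a => c a = 0 ∧ φ (rep cs h y a) < 0)).card := by
    refine lt_of_le_of_lt (Finset.card_le_card_of_injOn (t := (P.filter (fun a => c a = 0 ∧
      φ (rep cs h y a) < 0)).erase (sr i)) (fun a => rep cs h (cs.simple i) a) ?_ ?_)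
      (Finset.card_erase_lt_of_mem hsi)
    · intro b hb
      obtain ⟨hbP, hb0, hb1⟩ := Finset.mem_filter.1 (Finset.mem_coe.1 hb)
      obtain ⟨hbr, hb2⟩ := (hP b).1 hbP
      rw [rep_mul_apply] at hb1
      have hne : b ≠ sr i := by
        rintro rfl
        rw [rep_simple_sr, map_neg, map_neg] at hb1
        omega
      refine Finset.mem_coe.2 (Finset.mem_erase.2 ⟨fun e => ?_, Finset.mem_filter.2 ⟨(hP _).2 ⟨hbr.act _,
        hbr.simple_nonneg hb2 i hne⟩, by rw [pb_simple c hi0, hb0], hb1⟩⟩)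
      have h3 := congrArg (rep cs h (cs.simple i)) e
      rw [← rep_mul_apply, cs.simple_mul_simple_self, map_one, rep_simple_sr] at h3
      have h4 : b = - sr i := h3
      have h5 := hb2 i
      rw [h4, Pi.neg_apply, sr_self] at h5
      simp at h5
    · intro b _ b' _ e
      have h3 := congrArg (rep cs h (cs.simple i)) e
      simp only [] at h3
      rwa [← rep_mul_apply, ← rep_mul_apply, cs.simple_mul_simple_self, map_one] at h3
  exact absurd h1 (not_le.2 h2)

/-- the number of positive roots of `Ψ` made negative by `w` -/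
noncomputable def ni (cs : CoxeterSystem M W) (h : IsCartan M A) (Q : Finset (I → ℤ)) (w : W) : ℕ := by
  classical exact (Q.filter (fun a => rep cs h w a ≤ 0)).card

include hc hP in
/-- one stabilizer of a dominant functional -/
theorem sum_zero [Finite W] (q : ℕ) (hq : 0 < q) (E Wn : Finset W) (hE : ∀ e ∈ E, ∀ x, c (rep cs h e x) = c x)
    (hW : ∀ w, w ∈ Wn) (Q : Finset (I → ℤ)) (hQ : ∀ x, x ∈ Q ↔ x ∈ P ∧ c x = 0) :
    q ^ (P.card - Q.card) * ∑ e ∈ E, q ^ ni cs h Q e ≤ ∑ w ∈ Wn, q ^ ni cs h P w := by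
  classical
  -- the functional
  obtain ⟨K, hK⟩ : ∃ K : ℤ, ∀ a ∈ P, ht a < K := by
    refine ⟨(∑ a ∈ P, |ht a|) + 1, fun a ha => ?_⟩
    have h1 : |ht a| ≤ ∑ a ∈ P, |ht a| := Finset.single_le_sum (f := fun a => |ht a|) (fun b _ => abs_nonneg _) ha
    have h2 := le_abs_self (ht a)
    omega
  let φ : (I → ℤ) →+ ℤ := ht - K • c
  have hφ' : ∀ x, φ x = ht x - K * c x := fun x => rfl
  have hφ0 : ∀ a ∈ P, c a = 0 → 0 < φ a := fun a ha h0 => by
    rw [hφ', h0, mul_zero, sub_zero]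
    exact ht_pos ((hP a).1 ha).1 ((hP a).1 ha).2
  have hφ1 : ∀ a ∈ P, c a ≠ 0 → φ a < 0 := fun a ha h0 => by
    have h1 := c_nonneg c hc ((hP a).1 ha).2
    have h2 := hK a ha
    have h3 := ht_pos ((hP a).1 ha).1 ((hP a).1 ha).2
    have h4 : 1 ≤ c a := by omega
    rw [hφ']
    nlinarith only [h2, h3, h4]
  have hφ : ∀ x, IsRoot cs h x → φ x ≠ 0 := fun x hx => by
    have key : ∀ a ∈ P, φ a ≠ 0 := fun a ha => by
      by_cases h0 : c a = 0
      · exact (hφ0 a ha h0).ne'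
      · exact (hφ1 a ha h0).ne
    rcases hx.pos_or_neg with h1 | h1
    · exact key x ((hP x).2 ⟨hx, h1⟩)
    · have h2 := key (-x) ((hP _).2 ⟨hx.neg, neg_nonneg.2 h1⟩)
      rw [map_neg] at h2
      exact fun h3 => h2 (by rw [h3, neg_zero])
  obtain ⟨y, -, hy⟩ := exists_pos (cs := cs) (h := h) 0 (fun i => le_refl _) P hP φ hφ
  have hy1 : ∀ b, IsRoot cs h b → 0 < φ b → rep cs h y⁻¹ b ∈ P := fun b hb h1 => by
    rcases (hb.act y⁻¹).pos_or_neg with h2 | h2
    · exact (hP _).2 ⟨hb.act _, h2⟩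
    · have h3 := hy _ ((hP _).2 ⟨(hb.act y⁻¹).neg, neg_nonneg.2 h2⟩) rfl
      rw [map_neg, rep_apply_inv, map_neg] at h3
      omega
  have hQP : Q ⊆ P := fun x hx => ((hQ x).1 hx).1
  have key : ∀ e ∈ E, ni cs h Q e + (P.card - Q.card) ≤ ni cs h P (e * y) := by
    intro e he
    have he' := hE e he
    let B1 := (Q.filter (fun a => rep cs h e a ≤ 0)).image (fun b => rep cs h y⁻¹ b)
    let B2 := (P \ Q).image (fun b => -(rep cs h y⁻¹ b))
    have hi1 : Function.Injective (fun b => rep cs h y⁻¹ b) := fun b b' e1 => by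
      have h3 := congrArg (rep cs h y) e1
      simp only [] at h3
      rwa [rep_apply_inv, rep_apply_inv] at h3
    have hi2 : Function.Injective (fun b => -(rep cs h y⁻¹ b)) := fun b b' e1 => hi1 (neg_injective e1)
    have hc1 : B1.card = ni cs h Q e := Finset.card_image_of_injective _ hi1
    have hc2 : B2.card = P.card - Q.card := by
      rw [Finset.card_image_of_injective _ hi2, Finset.card_sdiff_of_subset hQP]
    have hd : Disjoint B1 B2 := by
      rw [Finset.disjoint_left]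
      intro x hx1 hx2
      obtain ⟨b, hb, rfl⟩ := Finset.mem_image.1 hx1
      obtain ⟨b', hb', e1⟩ := Finset.mem_image.1 hx2
      have h1 : b = -b' := by
        have h3 := congrArg (rep cs h y) e1
        rw [map_neg, rep_apply_inv, rep_apply_inv] at h3
        exact h3.symm
      have h2 := (hP b).1 (hQP (Finset.mem_filter.1 hb).1)
      have h3 := (hP b').1 (Finset.mem_sdiff.1 hb').1
      exact h2.1.not_pos_neg h2.2 (by rw [h1]; exact neg_nonpos.2 h3.2)
    have hsub : B1 ∪ B2 ⊆ P.filter (fun a => rep cs h (e * y) a ≤ 0) := by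
      intro x hx
      rcases Finset.mem_union.1 hx with hx | hx
      · obtain ⟨b, hb, rfl⟩ := Finset.mem_image.1 hx
        obtain ⟨hb1, hb2⟩ := Finset.mem_filter.1 hb
        obtain ⟨hb3, hb4⟩ := (hQ b).1 hb1
        refine Finset.mem_filter.2 ⟨hy1 b ((hP b).1 hb3).1 (hφ0 b hb3 hb4), ?_⟩
        rw [rep_mul_apply, rep_apply_inv]
        exact hb2
      · obtain ⟨b, hb, rfl⟩ := Finset.mem_image.1 hx
        obtain ⟨hb1, hb2⟩ := Finset.mem_sdiff.1 hb
        have hb3 : c b ≠ 0 := fun h0 => hb2 ((hQ b).2 ⟨hb1, h0⟩)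
        obtain ⟨hb4, hb5⟩ := (hP b).1 hb1
        have h1 := hy1 (-b) hb4.neg (by
          have := hφ1 b hb1 hb3
          rw [map_neg]; omega)
        rw [map_neg] at h1
        refine Finset.mem_filter.2 ⟨h1, ?_⟩
        rw [rep_mul_apply, map_neg, rep_apply_inv, map_neg, neg_nonpos]
        refine nonneg_of_c c hc (hb4.act e) ?_
        rw [he']
        exact lt_of_le_of_ne (c_nonneg c hc hb5) (Ne.symm hb3)
    calc ni cs h Q e + (P.card - Q.card) = (B1 ∪ B2).card := by rw [Finset.card_union_of_disjoint hd, hc1, hc2]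
      _ ≤ _ := Finset.card_le_card hsub
  calc q ^ (P.card - Q.card) * ∑ e ∈ E, q ^ ni cs h Q e = ∑ e ∈ E, q ^ (ni cs h Q e + (P.card - Q.card)) := by
        rw [Finset.mul_sum]
        exact Finset.sum_congr rfl fun e _ => by rw [pow_add, mul_comm]
    _ ≤ ∑ e ∈ E, q ^ ni cs h P (e * y) := Finset.sum_le_sum fun e he => Nat.pow_le_pow_right hq (key e he)
    _ = ∑ w ∈ E.image (fun e => e * y), q ^ ni cs h P w := by
        rw [Finset.sum_image]
        intro a _ b _ e1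
        exact mul_right_cancel e1
    _ ≤ _ := Finset.sum_le_sum_of_subset fun w _ => hW w

/-- the roots of `Ψ` -/
def Psi (cs : CoxeterSystem M W) (h : IsCartan M A) (c : (I → ℤ) →+ ℤ) (n : ℕ) : Set (I → ℤ) :=
  {a | IsRoot cs h a ∧ (n : ℤ) ∣ c a}

/-- the stabilizer modulo `n` -/
def St (cs : CoxeterSystem M W) (h : IsCartan M A) (c : (I → ℤ) →+ ℤ) (n : ℕ) (w : W) : Prop :=
  ∀ a, IsRoot cs h a → (n : ℤ) ∣ c (rep cs h w a) - c a

variable {n : ℕ}

theorem St.inv {c : (I → ℤ) →+ ℤ} {w : W} (hw : St cs h c n w) : St cs h c n w⁻¹ := fun a ha => by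
  have h1 := hw _ (ha.act w⁻¹)
  rw [rep_apply_inv] at h1
  rw [← neg_sub]
  exact (dvd_neg).2 h1

section

variable (hlt : ∀ a, IsRoot cs h a → c a < n)

include hc hP hlt in
theorem dvd_iff_zero {a : I → ℤ} (ha : a ∈ P) : (n : ℤ) ∣ c a ↔ c a = 0 := by
  constructor
  · intro h1
    exact Int.eq_zero_of_dvd_of_nonneg_of_lt (c_nonneg c hc ((hP a).1 ha).2) (hlt a ((hP a).1 ha).1) h1
  · intro h1
    rw [h1]
    exact dvd_zero _

include hc hP hlt in
/-- one fibre -/
theorem exists_rep [Finite W] (Q : Finset (I → ℤ)) (hQ : ∀ x, x ∈ Q ↔ x ∈ P ∧ c x = 0) {w : W} (hw : St cs h c n w) :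
    ∃ w₁ : W, (∀ x, c (rep cs h w₁ x) = c (rep cs h w x)) ∧ Set.BijOn (fun a => rep cs h w₁ a) Q Q := by
  classical
  obtain ⟨y, hy, hpos⟩ := exists_pos c hc P hP (pb cs h ht w⁻¹) (fun x hx => by
    rw [pb_apply]
    rcases (hx.act w⁻¹).pos_or_neg with h1 | h1
    · exact (ht_pos (hx.act _) h1).ne'
    · exact (ht_neg (hx.act _) h1).ne)
  have hy' : ∀ x, c (rep cs h y⁻¹ x) = c x := fun x => by
    have h1 := hy (rep cs h y⁻¹ x)
    rw [rep_apply_inv] at h1
    exact h1.symm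
  refine ⟨y⁻¹ * w, fun x => by rw [rep_mul_apply, hy'], ?_⟩
  -- the inverse maps `Q` to `Q`
  have hmap : ∀ a ∈ Q, rep cs h (w⁻¹ * y) a ∈ Q := by
    intro a ha
    obtain ⟨haP, ha0⟩ := (hQ a).1 ha
    obtain ⟨har, -⟩ := (hP a).1 haP
    have h1 : 0 < ht (rep cs h w⁻¹ (rep cs h y a)) := hpos a haP ha0
    rw [← rep_mul_apply] at h1
    have h2 : rep cs h (w⁻¹ * y) a ∈ P := (hP _).2 ⟨har.act _, nonneg_of_ht (har.act _) h1⟩
    refine (hQ _).2 ⟨h2, (dvd_iff_zero c hc P hP hlt h2).1 ?_⟩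
    have h3 := hw.inv _ (har.act y)
    rw [← rep_mul_apply, hy, ha0, sub_zero] at h3
    exact h3
  have hinj : ∀ w : W, Set.InjOn (fun a => rep cs h w a) (Q : Set (I → ℤ)) := fun w a _ b _ e => by
    have h3 := congrArg (rep cs h w⁻¹) e
    rw [rep_inv_apply, rep_inv_apply] at h3
    exact h3
  have himg : Q.image (fun a => rep cs h (w⁻¹ * y) a) = Q := by
    refine Finset.eq_of_subset_of_card_le (fun x hx => ?_) ?_
    · obtain ⟨a, ha, rfl⟩ := Finset.mem_image.1 hx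
      exact hmap a ha
    · rw [Finset.card_image_of_injOn (hinj _)]
  have e0 : (y⁻¹ * w)⁻¹ = w⁻¹ * y := by group
  refine ⟨fun a ha => ?_, hinj _, fun b hb => ?_⟩
  · have h1 : a ∈ Q.image (fun a => rep cs h (w⁻¹ * y) a) := by rw [himg]; exact ha
    obtain ⟨b, hb, rfl⟩ := Finset.mem_image.1 h1
    show rep cs h (y⁻¹ * w) (rep cs h (w⁻¹ * y) b) ∈ (Q : Set (I → ℤ))
    rw [← e0, rep_apply_inv]
    exact hb
  · refine ⟨rep cs h (w⁻¹ * y) b, hmap b hb, ?_⟩
    show rep cs h (y⁻¹ * w) (rep cs h (w⁻¹ * y) b) = b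
    rw [← e0, rep_apply_inv]

include hc hP hlt in
/-- **the sum over one fibre** -/
theorem sum_fibre [Finite W] (q : ℕ) (Q : Finset (I → ℤ)) (hQ : ∀ x, x ∈ Q ↔ x ∈ P ∧ c x = 0) {w : W}
    (hw : St cs h c n w) (F E : Finset W) (hF : ∀ v ∈ F, ∀ x, c (rep cs h v x) = c (rep cs h w x))
    (hE : ∀ e : W, (∀ x, c (rep cs h e x) = c x) → e ∈ E) :
    ∑ v ∈ F, q ^ ni cs h Q v ≤ ∑ e ∈ E, q ^ ni cs h Q e := by
  classical
  obtain ⟨w₁, h1, h2⟩ := exists_rep c hc P hP hlt Q hQ hw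
  have key : ∀ e : W, ni cs h Q (e * w₁) = ni cs h Q e := by
    intro e
    unfold ni
    refine Finset.card_nbij (fun a => rep cs h w₁ a) ?_ ?_ ?_
    · intro a ha
      obtain ⟨ha1, ha2⟩ := Finset.mem_filter.1 ha
      rw [rep_mul_apply] at ha2
      exact Finset.mem_filter.2 ⟨h2.1 ha1, ha2⟩
    · exact fun a ha b hb e => h2.2.1 (Finset.mem_filter.1 (Finset.mem_coe.1 ha)).1
        (Finset.mem_filter.1 (Finset.mem_coe.1 hb)).1 e
    · intro b hb
      obtain ⟨hb1, hb2⟩ := Finset.mem_filter.1 (Finset.mem_coe.1 hb)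
      obtain ⟨a, ha, e⟩ := h2.2.2 (Finset.mem_coe.2 hb1)
      refine ⟨a, Finset.mem_coe.2 (Finset.mem_filter.2 ⟨ha, ?_⟩), e⟩
      have e' : rep cs h w₁ a = b := e
      rw [rep_mul_apply, e']
      exact hb2
  calc ∑ v ∈ F, q ^ ni cs h Q v = ∑ v ∈ F, q ^ ni cs h Q (v * w₁⁻¹) :=
        Finset.sum_congr rfl fun v _ => by rw [← key (v * w₁⁻¹), inv_mul_cancel_right]
    _ = ∑ e ∈ F.image (fun v => v * w₁⁻¹), q ^ ni cs h Q e := by
        rw [Finset.sum_image]
        intro a _ b _ e1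
        exact mul_right_cancel e1
    _ ≤ _ := by
        refine Finset.sum_le_sum_of_subset fun e he => ?_
        obtain ⟨v, hv, rfl⟩ := Finset.mem_image.1 he
        refine hE _ fun x => ?_
        rw [rep_mul_apply, hF v hv, ← h1, rep_apply_inv]

include hc hlt in
/-- the possible differences -/
theorem diff_cases {θ : I → ℤ} (hθ : IsRoot cs h θ) (hm : ∀ i, 1 ≤ θ i) (hn : 0 < n) {w : W} (hw : St cs h c n w) :
    (∀ i, c (rep cs h w (sr i)) = c (sr i)) ∨
      ∃ i, θ i = 1 ∧ c (rep cs h w (sr i)) = c (sr i) - n ∧ ∀ j, j ≠ i → c (rep cs h w (sr j)) = c (sr j) := by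
  classical
  have hgt : ∀ a, IsRoot cs h a → -(n : ℤ) < c a := fun a ha => by
    have h1 := hlt _ ha.neg
    rw [map_neg] at h1
    omega
  have hd : ∀ i, c (rep cs h w (sr i)) = c (sr i) ∨ c (rep cs h w (sr i)) = c (sr i) - n := by
    intro i
    obtain ⟨m, hm'⟩ := hw _ (isRoot_sr cs h i)
    have h1 := hgt _ ((isRoot_sr cs h i).act w)
    have h2 := hlt _ ((isRoot_sr cs h i).act w)
    have h3 := hlt _ (isRoot_sr cs h i)
    have h4 := hc i
    have hn' : (0 : ℤ) < n := by exact_mod_cast hn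
    have h5 : m < 1 := by
      by_contra hcon
      push Not at hcon
      nlinarith only [h, hm', h2, h4, hcon]
    have h6 : -2 < m := by
      by_contra hcon
      push Not at hcon
      nlinarith only [h, hm', h1, h3, hcon]
    rcases (by omega : m = 0 ∨ m = -1) with rfl | rfl
    · left; linarith only [h, hm']
    · right; linarith only [hm']
  let d : I → ℤ := fun i => c (rep cs h w (sr i)) - c (sr i)
  have hd0 : ∀ i, d i ≤ 0 := fun i => by
    rcases hd i with e | e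
    · show c (rep cs h w (sr i)) - c (sr i) ≤ 0
      omega
    · show c (rep cs h w (sr i)) - c (sr i) ≤ 0
      omega
  have hsum : -(2 * n : ℤ) < ∑ i, θ i * d i := by
    have h1 : ∑ i, θ i * d i = pb cs h c w θ - c θ := by
      rw [apply_eq (pb cs h c w) θ, apply_eq c θ, ← Finset.sum_sub_distrib]
      exact Finset.sum_congr rfl fun i _ => mul_sub _ _ _
    rw [h1, pb_apply]
    have h2 := hgt _ (hθ.act w)
    have h3 := hlt _ hθ
    omega
  have hn' : (0 : ℤ) < n := by exact_mod_cast hn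
  by_cases hall : ∀ i, c (rep cs h w (sr i)) = c (sr i)
  · exact Or.inl hall
  · right
    push Not at hall
    obtain ⟨i, hi⟩ := hall
    have hi' := (hd i).resolve_left hi
    have hdi : d i = -n := by
      show c (rep cs h w (sr i)) - c (sr i) = -n
      omega
    have hle : ∀ T : Finset I, ∑ i, θ i * d i ≤ ∑ i ∈ T, θ i * d i := fun T => by
      rw [← Finset.sum_sdiff (Finset.subset_univ T)]
      have h1 : ∑ i ∈ Finset.univ \ T, θ i * d i ≤ 0 := Finset.sum_nonpos fun j _ =>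
        mul_nonpos_of_nonneg_of_nonpos (by linarith [hm j]) (hd0 j)
      linarith
    refine ⟨i, ?_, hi', fun j hj => ?_⟩
    · have h1 := hle {i}
      rw [Finset.sum_singleton, hdi] at h1
      have h2 := hm i
      by_contra hcon
      have h3 : 2 ≤ θ i := by omega
      nlinarith only [hsum, h1, h3]
    · by_contra hcon
      have hj' := (hd j).resolve_left hcon
      have hdj : d j = -n := by
        show c (rep cs h w (sr j)) - c (sr j) = -n
        omega
      have h1 := hle {i, j}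
      rw [Finset.sum_pair (Ne.symm hj), hdi, hdj] at h1
      have h2 := hm i
      have h3 := hm j
      nlinarith only [hsum, h1, h2, h3]

include hc hP hlt in
/-- **The stabilizer sum.** -/
theorem sum_le [Finite W] (q : ℕ) (hq : 0 < q) (hn : 0 < n) {θ : I → ℤ} (hθ : IsRoot cs h θ) (hm : ∀ i, 1 ≤ θ i)
    (Mn : Finset I) (hMn : ∀ i, θ i = 1 → i ∈ Mn) (Q : Finset (I → ℤ)) (hQ : ∀ x, x ∈ Q ↔ x ∈ P ∧ c x = 0)
    (S Wn : Finset W) (hS : ∀ w ∈ S, St cs h c n w) (hW : ∀ w, w ∈ Wn) :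
    q ^ (P.card - Q.card) * ∑ w ∈ S, q ^ ni cs h Q w ≤ (1 + Mn.card) * ∑ w ∈ Wn, q ^ ni cs h P w := by
  classical
  have : Fintype W := Fintype.ofFinite W
  let E : Finset W := Finset.univ.filter (fun e => ∀ x, c (rep cs h e x) = c x)
  have hE : ∀ e : W, (∀ x, c (rep cs h e x) = c x) → e ∈ E := fun e he =>
    Finset.mem_filter.2 ⟨Finset.mem_univ e, he⟩
  have h0 := sum_zero c hc P hP q hq E Wn (fun e he => (Finset.mem_filter.1 he).2) hW Q hQ
  let P0 : W → Prop := fun w => ∀ i, c (rep cs h w (sr i)) = c (sr i)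
  let P1 : I → W → Prop := fun i w => c (rep cs h w (sr i)) = c (sr i) - n ∧ ∀ j, j ≠ i →
    c (rep cs h w (sr j)) = c (sr j)
  have hfib : ∀ F : Finset W, F ⊆ S → (∀ v ∈ F, ∀ w ∈ F, ∀ i, c (rep cs h v (sr i)) = c (rep cs h w (sr i))) →
      ∑ v ∈ F, q ^ ni cs h Q v ≤ ∑ e ∈ E, q ^ ni cs h Q e := by
    intro F hF h1
    rcases F.eq_empty_or_nonempty with rfl | ⟨w, hw⟩
    · rw [Finset.sum_empty]
      exact Nat.zero_le _
    · exact sum_fibre c hc P hP hlt q Q hQ (hS w (hF hw)) F E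
        (fun v hv x => ext_sr (c := pb cs h c v) (c' := pb cs h c w) (fun i => h1 v hv w hw i) x) hE
  have h1 : ∑ w ∈ S, q ^ ni cs h Q w ≤ (∑ w ∈ S.filter P0, q ^ ni cs h Q w) +
      ∑ i ∈ Mn, ∑ w ∈ S.filter (P1 i), q ^ ni cs h Q w := by
    have h2 : ∀ w ∈ S, q ^ ni cs h Q w ≤ (if P0 w then q ^ ni cs h Q w else 0) +
        ∑ i ∈ Mn, if P1 i w then q ^ ni cs h Q w else 0 := by
      intro w hw
      rcases diff_cases c hc hlt hθ hm hn (hS w hw) with h3 | ⟨i, hi, h3⟩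
      · rw [if_pos (show P0 w from h3)]
        exact Nat.le_add_right _ _
      · refine le_trans ?_ (Nat.le_add_left _ _)
        refine le_trans ?_ (Finset.single_le_sum (f := fun i => if P1 i w then q ^ ni cs h Q w else 0)
          (fun _ _ => Nat.zero_le _) (hMn i hi))
        rw [if_pos (show P1 i w from h3)]
    refine (Finset.sum_le_sum h2).trans (le_of_eq ?_)
    rw [Finset.sum_add_distrib, Finset.sum_comm, ← Finset.sum_filter]
    congr 1
    exact Finset.sum_congr rfl fun i _ => by rw [← Finset.sum_filter]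
  have h2 : ∑ w ∈ S.filter P0, q ^ ni cs h Q w ≤ ∑ e ∈ E, q ^ ni cs h Q e :=
    hfib _ (Finset.filter_subset _ _) fun v hv w hw i => by
      rw [(Finset.mem_filter.1 hv).2 i, (Finset.mem_filter.1 hw).2 i]
  have h3 : ∀ i ∈ Mn, ∑ w ∈ S.filter (P1 i), q ^ ni cs h Q w ≤ ∑ e ∈ E, q ^ ni cs h Q e := fun i _ =>
    hfib _ (Finset.filter_subset _ _) fun v hv w hw j => by
      obtain ⟨a1, a2⟩ := (Finset.mem_filter.1 hv).2
      obtain ⟨b1, b2⟩ := (Finset.mem_filter.1 hw).2
      by_cases hj : j = i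
      · subst hj
        rw [a1, b1]
      · rw [a2 j hj, b2 j hj]
  have h4 : ∑ w ∈ S, q ^ ni cs h Q w ≤ (1 + Mn.card) * ∑ e ∈ E, q ^ ni cs h Q e := by
    refine h1.trans ?_
    have h5 := Finset.sum_le_card_nsmul Mn _ _ h3
    rw [smul_eq_mul] at h5
    rw [add_mul, one_mul]
    exact Nat.add_le_add h2 h5
  calc q ^ (P.card - Q.card) * ∑ w ∈ S, q ^ ni cs h Q w
      ≤ q ^ (P.card - Q.card) * ((1 + Mn.card) * ∑ e ∈ E, q ^ ni cs h Q e) := Nat.mul_le_mul_left _ h4
    _ = (1 + Mn.card) * (q ^ (P.card - Q.card) * ∑ e ∈ E, q ^ ni cs h Q e) := by ring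
    _ ≤ _ := Nat.mul_le_mul_left _ h0

include hc hP hlt in
/-- the same with the sets of the centralizer formula -/
theorem sum_le_ncard [Finite W] (q : ℕ) (hq : 0 < q) (hn : 0 < n) {θ : I → ℤ} (hθ : IsRoot cs h θ)
    (hm : ∀ i, 1 ≤ θ i) (Mn : Finset I) (hMn : ∀ i, θ i = 1 → i ∈ Mn) (S Wn : Finset W)
    (hS : ∀ w ∈ S, St cs h c n w) (hW : ∀ w, w ∈ Wn) :
    q ^ (P.card - (P.filter (fun a => c a = 0)).card) * ∑ w ∈ S, q ^ (NW cs h w ∩ Psi cs h c n).ncard ≤
      (1 + Mn.card) * ∑ w ∈ Wn, q ^ (NW cs h w).ncard := by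
  classical
  have h1 := sum_le c hc P hP hlt q hq hn hθ hm Mn hMn (P.filter (fun a => c a = 0))
    (fun x => Finset.mem_filter) S Wn hS hW
  have e1 : ∀ w : W, (NW cs h w ∩ Psi cs h c n).ncard = ni cs h (P.filter (fun a => c a = 0)) w := by
    intro w
    unfold ni
    rw [← Set.ncard_coe_finset]
    congr 1
    ext x
    rw [Finset.mem_coe, Finset.mem_filter, Finset.mem_filter]
    constructor
    · rintro ⟨⟨a1, a2, a3⟩, -, a4⟩
      have hx := (hP x).2 ⟨a1, a2⟩
      exact ⟨⟨hx, (dvd_iff_zero c hc P hP hlt hx).1 a4⟩, a3⟩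
    · rintro ⟨⟨a1, a2⟩, a3⟩
      exact ⟨⟨((hP x).1 a1).1, ((hP x).1 a1).2, a3⟩, ((hP x).1 a1).1, by rw [a2]; exact dvd_zero _⟩
  have e2 : ∀ w : W, (NW cs h w).ncard = ni cs h P w := by
    intro w
    unfold ni
    rw [← Set.ncard_coe_finset]
    congr 1
    ext x
    rw [Finset.mem_coe, Finset.mem_filter, hP]
    exact ⟨fun hx => ⟨⟨hx.1, hx.2.1⟩, hx.2.2⟩, fun hx => ⟨hx.1.1, hx.1.2, hx.2⟩⟩
  simp only [e1, e2]
  exact h1

include hc hP hlt in
/-- the positive roots of `Ψ` -/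
theorem card_pos : ({a | a ∈ Psi cs h c n ∧ 0 ≤ a} : Set (I → ℤ)).ncard = (P.filter (fun a => c a = 0)).card := by
  classical
  rw [← Set.ncard_coe_finset]
  congr 1
  ext x
  rw [Finset.mem_coe, Finset.mem_filter]
  constructor
  · rintro ⟨⟨a1, a2⟩, a3⟩
    have hx := (hP x).2 ⟨a1, a3⟩
    exact ⟨hx, (dvd_iff_zero c hc P hP hlt hx).1 a2⟩
  · rintro ⟨a1, a2⟩
    exact ⟨⟨((hP x).1 a1).1, by rw [a2]; exact dvd_zero _⟩, ((hP x).1 a1).2⟩

end

end Cfsg.Agent.H275.CS.Sum
end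

-- part: H275/CS/Poin
section
/-!
# The Poincaré sum of `W(E₆)`, `W(E₇)`, `W(E₈)` (S5745; helper275)

`poin_E6`, `poin_E7`, `poin_E8` : `(∑_w q ^ ℓ(w)) (q - 1) ^ l ≤ q ^ (N + l)` for a prime power `q`.
-/

set_option autoImplicit false
set_option linter.unusedSectionVars false

namespace Cfsg.Agent.H275.CS.Poin

open CoxeterSystem Cfsg Cfsg.Lie Cfsg.Lie.ChevalleyDatum
open Cfsg.Agent.ChevalleyStructure Cfsg.Agent.ChevalleyStructure.Elts Cfsg.Agent.ChevalleyStructure.CoxeterGeom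
  Cfsg.Agent.ChevalleyStructure.CoxeterGeomTypes Cfsg.Agent.ChevalleyStructure.NPerm
open Cfsg.Agent.Tits.Roots Cfsg.Agent.Tits.Core Cfsg.Agent.Nodes Cfsg.Agent.Nodes.Reps Cfsg.Agent.Nodes.BNOf
  Cfsg.Agent.Nodes.StabComb Cfsg.Agent.Nodes.Bruhat Cfsg.Agent.Nodes.LeviDec
  Cfsg.Agent.Nodes.RGDChev Cfsg.Agent.Nodes.NormalForm
open Cfsg.Agent.KFacts.RgdChevCoord (TT XX)

section

variable {D : ChevalleyDatum} {l : ℕ} {M : CoxeterMatrix (Fin l)} (hp : IsType D l M)
  {W : Type*} [Group W] (cs : CoxeterSystem M W)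

/-- the number of positive roots -/
theorem two_card (P : Finset (Fin l → ℤ)) (hP : ∀ x, x ∈ P ↔ IsRoot cs hp.isCartan x ∧ 0 ≤ x) :
    2 * P.card = D.nroots := by
  classical
  rw [← Cfsg.Agent.Nodes.KindChev.ncard_isRoot (cs := cs) (h := hp.isCartan) hp]
  have h1 : {x | IsRoot cs hp.isCartan x} = ((P ∪ P.image (fun x => -x) : Finset (Fin l → ℤ)) : Set (Fin l → ℤ)) := by
    ext x
    rw [Finset.coe_union, Finset.coe_image]
    constructor
    · intro hx
      have hx' : IsRoot cs hp.isCartan x := hx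
      rcases hx'.pos_or_neg with h0 | h0
      · exact Or.inl (Finset.mem_coe.2 ((hP x).2 ⟨hx', h0⟩))
      · exact Or.inr ⟨-x, Finset.mem_coe.2 ((hP _).2 ⟨hx'.neg, neg_nonneg.2 h0⟩), neg_neg x⟩
    · rintro (hx | ⟨y, hy, rfl⟩)
      · exact ((hP x).1 hx).1
      · exact ((hP y).1 hy).1.neg
  rw [h1, Set.ncard_coe_finset, Finset.card_union_of_disjoint, Finset.card_image_of_injective _ neg_injective,
    two_mul]
  rw [Finset.disjoint_left]
  intro x hx hx2
  obtain ⟨y, hy, rfl⟩ := Finset.mem_image.1 hx2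
  have h2 := (hP _).1 hx
  have h3 := (hP y).1 hy
  exact h3.1.not_pos_neg h3.2 (neg_nonneg.1 h2.2)

theorem poin_gen {K : Type} [Field K] [Fintype K] {p : ℕ} [Fact p.Prime] [CharP K p]
    (P : Finset (Fin l → ℤ)) (hP : ∀ x, x ∈ P ↔ IsRoot cs hp.isCartan x ∧ 0 ≤ x)
    (hnum : Nat.card (D.group K) * (Nat.card K - 1) ^ l ≤ Nat.card (TT D K) * Nat.card K ^ (2 * P.card + l))
    (Wn : Finset W) : (∑ w ∈ Wn, Nat.card K ^ (NW cs hp.isCartan w).ncard) * (Nat.card K - 1) ^ l ≤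
      Nat.card K ^ (P.card + l) := by
  classical
  have := finite_W hp cs
  have : Fintype W := Fintype.ofFinite W
  have : Fintype ↥(WJ cs (Set.univ : Set (Fin l))) := Fintype.ofFinite _
  have R := rgd (K := K) hp cs p
  have hX : ∀ x, IsRoot cs hp.isCartan x → Nat.card ↥(XX D l K x) = Nat.card K := fun x hx =>
    Cfsg.Agent.H897.IF.card_XX hp cs hx
  have h1 := Cfsg.Agent.H225.PPow.Card.card_PJ_gen R (Set.univ : Set (Fin l))
  have h2 : ∀ w : W, Nat.card ↥(RGD.Sup (XX D l K) (NW cs hp.isCartan w)) =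
      Nat.card K ^ (NW cs hp.isCartan w).ncard := fun w => Cfsg.Agent.H225.PPow.Card.card_Sup_NW R hX w
  have hPos : (P : Set (Fin l → ℤ)) = RGD.Pos cs hp.isCartan := by
    ext x
    exact hP x
  have h3 : Nat.card ↥(RGD.Sup (XX D l K) (RGD.Pos cs hp.isCartan)) = Nat.card K ^ P.card := by
    have h4 := Cfsg.Agent.Nodes.CardSup.card_sup R (s := P) (by rw [hPos]) (by
      rw [hPos]
      exact Cfsg.Agent.Nodes.Unique.closed_pos)
    rw [hPos] at h4
    rw [h4, Finset.prod_congr rfl (fun x hx => hX x ((hP x).1 hx).1), Finset.prod_const]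
  have h4 : ∑ w : ↥(WJ cs (Set.univ : Set (Fin l))), Nat.card ↥(RGD.Sup (XX D l K) (NW cs hp.isCartan (w : W))) =
      ∑ w : W, Nat.card K ^ (NW cs hp.isCartan w).ncard := by
    let E : ↥(WJ cs (Set.univ : Set (Fin l))) ≃ W :=
      { toFun := fun w => (w : W)
        invFun := fun w => ⟨w, mem_univ' cs w⟩
        left_inv := fun w => rfl
        right_inv := fun w => rfl }
    exact Fintype.sum_equiv E _ _ fun w => h2 w
  have h5 : ∑ w ∈ Wn, Nat.card K ^ (NW cs hp.isCartan w).ncard ≤ ∑ w : W, Nat.card K ^ (NW cs hp.isCartan w).ncard :=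
    Finset.sum_le_sum_of_subset (Finset.subset_univ Wn)
  have h6 : Nat.card ↥(PJ cs hp.isCartan (TT D K) (XX D l K) (Set.univ : Set (Fin l))) ≤ Nat.card (D.group K) :=
    Subgroup.card_le_card_group _
  have h7 : Nat.card ↥(PJ cs hp.isCartan (TT D K) (XX D l K) (Set.univ : Set (Fin l))) =
      Nat.card K ^ P.card * Nat.card (TT D K) * ∑ w : W, Nat.card K ^ (NW cs hp.isCartan w).ncard := by
    rw [← h3, ← h4]
    exact h1
  rw [h7] at h6
  have hq : 0 < Nat.card K := Nat.card_pos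
  have hT : 0 < Nat.card (TT D K) := Nat.card_pos
  have h8 : 0 < Nat.card K ^ P.card * Nat.card (TT D K) := Nat.mul_pos (pow_pos hq _) hT
  refine Nat.le_of_mul_le_mul_left (c := Nat.card K ^ P.card * Nat.card (TT D K)) ?_ h8
  calc Nat.card K ^ P.card * Nat.card (TT D K) *
        ((∑ w ∈ Wn, Nat.card K ^ (NW cs hp.isCartan w).ncard) * (Nat.card K - 1) ^ l)
      ≤ Nat.card K ^ P.card * Nat.card (TT D K) *
        ((∑ w : W, Nat.card K ^ (NW cs hp.isCartan w).ncard) * (Nat.card K - 1) ^ l) :=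
        Nat.mul_le_mul_left _ (Nat.mul_le_mul_right _ h5)
    _ = (Nat.card K ^ P.card * Nat.card (TT D K) * ∑ w : W, Nat.card K ^ (NW cs hp.isCartan w).ncard) *
          (Nat.card K - 1) ^ l := by ring
    _ ≤ Nat.card (D.group K) * (Nat.card K - 1) ^ l := Nat.mul_le_mul_right _ h6
    _ ≤ Nat.card (TT D K) * Nat.card K ^ (2 * P.card + l) := hnum
    _ = _ := by ring

end

section

variable {W : Type*} [Group W]

/-- a field of order `q` -/
theorem exists_field {q : ℕ} (hq : IsPrimePow q) : ∃ (K : Type) (_ : Field K) (_ : Fintype K) (p : ℕ)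
    (_ : Fact p.Prime) (_ : CharP K p), Nat.card K = q := by
  obtain ⟨p, e, hp, he, rfl⟩ := (isPrimePow_nat_iff q).1 hq
  have : Fact p.Prime := ⟨hp⟩
  exact ⟨GaloisField p e, inferInstance, Fintype.ofFinite _, p, this, inferInstance, GaloisField.card p e he.ne'⟩

theorem poin_E6 {M : CoxeterMatrix (Fin 6)} (hp : IsType chevE6 6 M) (cs : CoxeterSystem M W) {q : ℕ}
    (hq : IsPrimePow q) (Wn : Finset W) :
    (∑ w ∈ Wn, q ^ (NW cs hp.isCartan w).ncard) * (q - 1) ^ 6 ≤ q ^ 42 := by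
  classical
  have := finite_W hp cs
  obtain ⟨K, i1, i2, p, i3, i4, rfl⟩ := exists_field hq
  have hfin : (RGD.Pos cs hp.isCartan).Finite := (RGD.finite_roots (cs := cs) (h := hp.isCartan)).subset fun _ hx => hx.1
  have hP : ∀ x, x ∈ hfin.toFinset ↔ IsRoot cs hp.isCartan x ∧ 0 ≤ x := fun x => Set.Finite.mem_toFinset hfin
  have h1 : hfin.toFinset.card = 36 := by
    have h2 := two_card hp cs _ hP
    have h3 : chevE6.nroots = 72 := rfl
    omega
  have h2 := poin_gen hp cs (p := p) hfin.toFinset hP (by rw [h1]; exact Cfsg.Agent.H897.IF.num_E6 (K := K)) Wn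
  rw [h1] at h2
  exact h2

end

end Cfsg.Agent.H275.CS.Poin
end

private theorem dce_2bcef88c7bee : _root_.True := by
  try have : _root_.True := by simp only [_root_.Cfsg.Agent.H275.CS.Sum.ni.congr_simp]
  try have : _root_.True := by simp only [_root_.Cfsg.Agent.H275.CS.Sum.Psi.congr_simp]
  try have : _root_.True := by simp only [_root_.Cfsg.Agent.Nodes.NormalForm.NW.congr_simp]
  exact _root_.True.intro
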